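import Groth.Prelude.Def_RelSpec
import Groth.Prelude.Def_Coh
import Groth.Agent.H10Coh.Local
import Groth.Agent.H10Coh.FinType

/-!
# The relative spectrum represents a quasi-coherent algebra
-/

set_option autoImplicit false
set_option linter.style.haveILetI false

universe u

open CategoryTheory CategoryTheory.Limits AlgebraicGeometry TopologicalSpace Opposite

noncomputable section

namespace Groth.Agent.H11RelSpec

variable {S : Scheme.{u}} (A : RelSpec.QCAlg S)

theorem isIso_gammaAff (U : S.Opens) (hU : IsAffineOpen U) : IsIso (A.gammaAff U hU) := by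
  haveI : IsIso ((A.ι U hU).app (A.π ⁻¹ᵁ U)) :=
    Scheme.Hom.isIso_app _ _ (A.π_preimage U hU).le
  have h : A.ι U hU ⁻¹ᵁ (A.π ⁻¹ᵁ U) = ⊤ := top_le_iff.mp (A.top_le_preimage U hU)
  haveI : IsIso ((Spec (A.presheaf.obj (op U))).presheaf.map
      (homOfLE (A.top_le_preimage U hU)).op) := by
    have : IsIso (homOfLE (A.top_le_preimage U hU)) := ⟨homOfLE le_top, rfl, rfl⟩
    infer_instance
  unfold RelSpec.QCAlg.gammaAff Scheme.Hom.appLE
  infer_instance

theorem isIso_gammaMap : IsIso A.gammaMap := by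
  let G := Scheme.AffineZariskiSite.toOpensFunctor S
  haveI : ∀ U, IsIso (A.gammaRestrict.app U) := fun U => isIso_gammaAff A U.unop.1 U.unop.2
  haveI : IsIso A.gammaRestrict := NatIso.isIso_of_isIso_app _
  let ℱA : TopCat.Sheaf CommRingCat.{u} S.carrier := ⟨A.presheaf, A.isSheaf⟩
  let ℱS : TopCat.Sheaf CommRingCat.{u} S.carrier :=
    ⟨A.π.base _* A.spec.presheaf, TopCat.Sheaf.pushforward_sheaf_of_sheaf _ A.spec.sheaf.property⟩
  let j : A.presheaf ⟶ A.π.base _* A.spec.presheaf :=
    Functor.IsCoverDense.restrictHomEquivHom (G := G) (K := Opens.grothendieckTopology S) (ℱ := A.presheaf)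
      (ℱ' := ℱS) (inv A.gammaRestrict)
  have hj : G.op.whiskerLeft j = inv A.gammaRestrict :=
    (Functor.IsCoverDense.restrictHomEquivHom (G := G) (K := Opens.grothendieckTopology S) (ℱ := A.presheaf)
      (ℱ' := ℱS)).symm_apply_apply _
  refine ⟨j, ?_, ?_⟩
  · apply (Functor.IsCoverDense.restrictHomEquivHom (G := G) (K := Opens.grothendieckTopology S)
      (ℱ := A.π.base _* A.spec.presheaf) (ℱ' := ℱS)).symm.injective
    show G.op.whiskerLeft (A.gammaMap ≫ j) = G.op.whiskerLeft (𝟙 _)
    rw [Functor.whiskerLeft_comp, hj, A.gammaMap_restrict, IsIso.hom_inv_id]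
    rfl
  · apply (Functor.IsCoverDense.restrictHomEquivHom (G := G) (K := Opens.grothendieckTopology S)
      (ℱ := A.presheaf) (ℱ' := ℱA)).symm.injective
    show G.op.whiskerLeft (j ≫ A.gammaMap) = G.op.whiskerLeft (𝟙 _)
    rw [Functor.whiskerLeft_comp, hj, A.gammaMap_restrict, IsIso.inv_hom_id]
    rfl

/-- A sheaf of algebras which is quasi-coherent as a module is a quasi-coherent algebra. -/
theorem isQC_of_isQCoh (B : Sheaf (Opens.grothendieckTopology S) CommRingCat.{u}) (φ : S.sheaf ⟶ B)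
    (hB : Coh.IsQCoh ((SheafOfModules.restrictScalars
      ((sheafCompose (Opens.grothendieckTopology S) (forget₂ CommRingCat.{u} RingCat.{u})).map φ)).obj
      (SheafOfModules.unit ((sheafCompose (Opens.grothendieckTopology S) (forget₂ CommRingCat.{u} RingCat.{u})).obj B)))) :
    RelSpec.IsQC B.obj φ.hom := by
  intro U hU r
  let M : S.Modules := (SheafOfModules.restrictScalars
      ((sheafCompose (Opens.grothendieckTopology S) (forget₂ CommRingCat.{u} RingCat.{u})).map φ)).obj
      (SheafOfModules.unit ((sheafCompose (Opens.grothendieckTopology S) (forget₂ CommRingCat.{u} RingCat.{u})).obj B))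
  haveI : M.IsQuasicoherent := hB
  letI := (B.obj.map (homOfLE (S.basicOpen_le r)).op).hom.toAlgebra
  have hnat : ∀ c : Γ(S, U), B.obj.map (homOfLE (S.basicOpen_le r)).op (φ.hom.app (op U) c) =
      φ.hom.app (op (S.basicOpen r)) (S.presheaf.map (homOfLE (S.basicOpen_le r)).op c) := fun c =>
    (ConcreteCategory.congr_hom (φ.hom.naturality (homOfLE (S.basicOpen_le r)).op) c).symm
  refine IsLocalization.Away.mk _ ?_ (fun z => ?_) fun a b hab => ?_
  · show IsUnit (B.obj.map (homOfLE (S.basicOpen_le r)).op (φ.hom.app (op U) r))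
    rw [hnat]
    exact (S.toRingedSpace.isUnit_res_basicOpen r).map (φ.hom.app (op (S.basicOpen r))).hom
  · obtain ⟨n, s, hs⟩ := Groth.Agent.H10Coh.exists_pow_smul_eq_res M hU r z
    refine ⟨n, s, ?_⟩
    show z * (B.obj.map (homOfLE (S.basicOpen_le r)).op (φ.hom.app (op U) r)) ^ n =
      B.obj.map (homOfLE (S.basicOpen_le r)).op s
    rw [hnat]
    refine Eq.trans ?_ hs.symm
    show _ = φ.hom.app (op (S.basicOpen r)) (S.presheaf.map (homOfLE (S.basicOpen_le r)).op (r ^ n)) * z
    rw [map_pow]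
    exact (mul_comm _ _).trans (congrArg (· * z) (map_pow (φ.hom.app (op (S.basicOpen r))).hom _ n).symm)
  · have h0 : M.presheaf.map (homOfLE (S.basicOpen_le r)).op ((a - b : Γ(M, U))) = 0 := by
      show B.obj.map (homOfLE (S.basicOpen_le r)).op (a - b) = 0
      rw [map_sub]
      exact sub_eq_zero.mpr hab
    obtain ⟨n, hn⟩ := Groth.Agent.H10Coh.exists_pow_smul_eq_zero_of_isCompact M hU.isCompact r _ h0
    refine ⟨n, ?_⟩
    have hn' : φ.hom.app (op U) (r ^ n) * (a - b) = 0 := hn
    rw [mul_sub, sub_eq_zero] at hn'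
    exact (congrArg (· * a) (map_pow (φ.hom.app (op U)).hom r n)).symm.trans
      (hn'.trans (congrArg (· * b) (map_pow (φ.hom.app (op U)).hom r n)))

/-- The relative spectrum of a sheaf of quasi-coherent algebras. -/
theorem exists_relSpec (B : Sheaf (Opens.grothendieckTopology S) CommRingCat.{u}) (φ : S.sheaf ⟶ B)
    (hB : Coh.IsQCoh ((SheafOfModules.restrictScalars
      ((sheafCompose (Opens.grothendieckTopology S) (forget₂ CommRingCat.{u} RingCat.{u})).map φ)).obj
      (SheafOfModules.unit ((sheafCompose (Opens.grothendieckTopology S) (forget₂ CommRingCat.{u} RingCat.{u})).obj B)))) :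
    ∃ (X : Scheme.{u}) (f : X ⟶ S) (_ : IsAffineHom f)
      (e : B ≅ (TopCat.Sheaf.pushforward CommRingCat.{u} f.base).obj X.sheaf),
      (φ ≫ e.hom).hom = f.c := by
  let A : RelSpec.QCAlg S := ⟨B.obj, B.property, φ.hom, isQC_of_isQCoh B φ hB⟩
  haveI := isIso_gammaMap A
  let T := (TopCat.Sheaf.pushforward CommRingCat.{u} A.π.base).obj A.spec.sheaf
  let e : B ≅ T := (fullyFaithfulSheafToPresheaf _ _).preimageIso (X := B) (Y := T) (asIso A.gammaMap).symm
  refine ⟨A.spec, A.π, inferInstance, e, ?_⟩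
  show φ.hom ≫ inv A.gammaMap = A.π.c
  rw [IsIso.comp_inv_eq]
  exact A.π_c_gammaMap.symm

end Groth.Agent.H11RelSpec
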